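import Mathlib
import Cfsg.Agent.H24.PF1c

/-!
# Peterfalvi section 1 and general character theory (top file)
Everything is proved in `H24/PF1a`, `H24/PF1b`, `H24/PF1c`.
-/
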