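import Mathlib
import Cfsg.Agent.FT.PF01
import Cfsg.Agent.H24.PF2b

/-!
# Peterfalvi section 2: the Dade isometry (top file)
`h : DadeHypothesis A L H` (Prelude); `dade A H` is the isometry, `dadeSupp A H` its support.
Everything is proved in `H24/PF2a`, `H24/PF2b`.
-/
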