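import Mathlib
import Cfsg.Agent.FT.PF02
import Cfsg.Agent.H24.PF3c

/-!
# Peterfalvi section 3: TI-subsets with cyclic normalizers (top file)
`h : CycTI Γ W W₁ W₂`; `V = zhat W₁ W₂`; `ω_ij = omega i j`, `σ = cycIso Γ W₁ W₂`, `η_ij = eta Γ i j`;
the index `0` of the book is the trivial homomorphism `1`.
Everything is proved in `H24/PF3L`, `H24/PF3a`, `H24/PF3b`, `H24/PF3c`.
-/
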