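import Mathlib
import Cfsg.Agent.FT.PF03
import Cfsg.Agent.H24.PF4b

/-!
# Peterfalvi section 4: the Dade isometry of a prime TI subgroup (top file)
`h : PrimeTI L K W W₁ W₂`; `δ_j = prSign L W₁ j`, `μ_ij = prIrr L i j`, `μ_j = prRed L W₁ j`,
`χ_j = prRes L K W₁ j`.  `h : PrimeDade L K H A A₀ R W W₁ W₂`, `τ = dade A₀ R`, `η_ij = eta ⊤ i j`.
Everything is proved in `H24/PF4a`, `H24/PF4b`.
-/
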