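import Mathlib
import Cfsg.Agent.FT.PF13c

/-!
# Peterfalvi section 13: the subgroups `S` and `T` (top file)
`P = MF(S)`, `PU = ⁅S, S⁆`, `C = U ⊓ C(P)`, `p = #W₂`, `q = #W₁`, `𝒮 = seqIndD PU S P ⊥`, `τ = FTtau S`.
Everything is proved in `FT/PF13a`, `FT/PF13b`, `FT/PF13c`.
-/
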